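import Mathlib

set_option autoImplicit false
set_option linter.style.haveILetI false

/-!
# Leading coefficient ideals for submodules of free modules over polynomial rings
-/

universe u

open MvPolynomial

namespace Groth.Agent.GenFree

variable {a n : ℕ}

/-- Index of the monomial basis of `R[x₁..xₙ]^a`. -/
abbrev Idx (a n : ℕ) : Type := Fin a × (Fin n →₀ ℕ)

/-- The linear key of an index. -/
noncomputable def key (i : Idx a n) : Fin a ×ₗ (MonomialOrder.lex (σ := Fin n)).syn :=
  toLex (i.1, MonomialOrder.lex.toSyn i.2)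

/-- Divisibility of indices. -/
def Dvd' (i j : Idx a n) : Prop := i.1 = j.1 ∧ i.2 ≤ j.2

theorem dvd'_wqo : WellQuasiOrdered (Dvd' (a := a) (n := n)) :=
  (Finite.wellQuasiOrdered (fun x y : Fin a => x = y)).prod wellQuasiOrdered_le

theorem key_injective : Function.Injective (key : Idx a n → _) := fun i j h => by
  have h2 := congrArg ofLex h
  simp only [key, ofLex_toLex, Prod.mk.injEq, EmbeddingLike.apply_eq_iff_eq] at h2
  exact Prod.ext h2.1 h2.2

theorem key_wf : WellFounded fun i j : Idx a n => key i < key j :=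
  InvImage.wf key wellFounded_lt

variable {R : Type u} [CommRing R]

/-- The free module. -/
abbrev FreeMod (R : Type u) [CommRing R] (a n : ℕ) : Type u := Fin a → MvPolynomial (Fin n) R

/-- Coefficient. -/
noncomputable def co (i : Idx a n) : FreeMod R a n →ₗ[R] R :=
  lcoeff R i.2 ∘ₗ LinearMap.proj i.1

theorem co_apply (i : Idx a n) (v : FreeMod R a n) : co i v = coeff i.2 (v i.1) := rfl

/-- Basis vector. -/
noncomputable def single (i : Idx a n) : FreeMod R a n := Pi.single i.1 (monomial i.2 1)

theorem co_single [DecidableEq (Idx a n)] (i j : Idx a n) :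
    co j (single i : FreeMod R a n) = if i = j then 1 else 0 := by
  rw [co_apply, single]
  by_cases h : j.1 = i.1
  · rw [h, Pi.single_eq_same, coeff_monomial]
    by_cases h2 : i.2 = j.2
    · rw [if_pos h2, if_pos (Prod.ext h.symm h2)]
    · rw [if_neg h2, if_neg fun e => h2 (congrArg Prod.snd e)]
  · rw [Pi.single_eq_of_ne h, coeff_zero, if_neg fun e => h (congrArg Prod.fst e).symm]

theorem ext_co {v w : FreeMod R a n} (h : ∀ i, co i v = co i w) : v = w :=
  funext fun s => MvPolynomial.ext _ _ fun m => h (s, m)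

theorem finite_support (v : FreeMod R a n) : {i : Idx a n | co i v ≠ 0}.Finite := by
  refine ((Finset.univ : Finset (Fin a)).finite_toSet.prod
    (Finset.univ.biUnion fun s => (v s).support).finite_toSet).subset fun i hi => ?_
  exact ⟨Finset.mem_univ _, Finset.mem_biUnion.mpr ⟨i.1, Finset.mem_univ _, mem_support_iff.mpr hi⟩⟩

theorem span_single : Submodule.span R (Set.range (single : Idx a n → FreeMod R a n)) = ⊤ := by
  classical
  refine eq_top_iff.mpr fun v _ => ?_
  have h : v = ∑ i ∈ (finite_support v).toFinset, co i v • single i := ext_co fun j => by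
    simp only [map_sum, map_smul, co_single, smul_eq_mul, mul_ite, mul_one, mul_zero,
      Finset.sum_ite_eq', Set.Finite.mem_toFinset, Set.mem_ofPred_eq]
    split_ifs with h
    · rfl
    · exact not_not.mp h
  rw [h]
  exact Submodule.sum_mem _ fun i _ => Submodule.smul_mem _ _ (Submodule.subset_span ⟨i, rfl⟩)

variable (N : Submodule (MvPolynomial (Fin n) R) (FreeMod R a n))

/-- The ideal of leading coefficients at `i`. -/
noncomputable def lead (i : Idx a n) : Ideal R where
  carrier := {c | ∃ v ∈ N, co i v = c ∧ ∀ j, key i < key j → co j v = 0}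
  zero_mem' := ⟨0, N.zero_mem, map_zero _, fun j _ => map_zero _⟩
  add_mem' := by
    rintro _ _ ⟨v, hv, rfl, hv'⟩ ⟨w, hw, rfl, hw'⟩
    exact ⟨v + w, N.add_mem hv hw, map_add _ _ _,
      fun j hj => by rw [map_add, hv' j hj, hw' j hj, add_zero]⟩
  smul_mem' := by
    rintro c _ ⟨v, hv, rfl, hv'⟩
    exact ⟨c • v, N.smul_of_tower_mem c hv, map_smul _ _ _,
      fun j hj => by rw [map_smul, hv' j hj, smul_zero]⟩

theorem mem_lead {i : Idx a n} {c : R} :
    c ∈ lead N i ↔ ∃ v ∈ N, co i v = c ∧ ∀ j, key i < key j → co j v = 0 := Iff.rfl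

theorem lead_mono {N' : Submodule (MvPolynomial (Fin n) R) (FreeMod R a n)} (h : N' ≤ N)
    (i : Idx a n) : lead N' i ≤ lead N i := fun _ ⟨v, hv, h1, h2⟩ => ⟨v, h hv, h1, h2⟩

theorem lead_le_of_dvd {i j : Idx a n} (h : Dvd' i j) : lead N i ≤ lead N j := by
  rintro c ⟨v, hv, rfl, hv'⟩
  obtain ⟨hs, hle⟩ := h
  obtain ⟨d, hd⟩ : ∃ d, j.2 = d + i.2 := ⟨j.2 - i.2, (tsub_add_cancel_of_le hle).symm⟩
  refine ⟨monomial d (1 : R) • v, N.smul_mem _ hv, ?_, fun k hk => ?_⟩
  · rw [co_apply, Pi.smul_apply, smul_eq_mul, hd, ← hs, coeff_monomial_mul, one_mul]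
    rfl
  · rw [co_apply, Pi.smul_apply, smul_eq_mul, coeff_monomial_mul']
    split_ifs with hdk
    · rw [one_mul]
      refine hv' (k.1, k.2 - d) ?_
      have hk2 : k.2 = d + (k.2 - d) := (add_tsub_cancel_of_le hdk).symm
      simp only [key, Prod.Lex.toLex_lt_toLex] at hk ⊢
      rw [hs]
      rw [hd] at hk
      refine hk.imp_right fun ⟨h1, h2⟩ => ⟨h1, ?_⟩
      rw [hk2, map_add, map_add] at h2
      exact lt_of_add_lt_add_left h2
    · rfl

/-- Span of the monomials outside `T`. -/
noncomputable def compl' (T : Set (Idx a n)) : Submodule R (FreeMod R a n) :=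
  Submodule.span R (single '' Tᶜ)

theorem co_eq_zero_of_mem_compl {T : Set (Idx a n)} {v : FreeMod R a n} (hv : v ∈ compl' T)
    {i : Idx a n} (hi : i ∈ T) : co i v = 0 := by
  classical
  induction hv using Submodule.span_induction with
  | mem x hx =>
    obtain ⟨j, hj, rfl⟩ := hx
    rw [co_single, if_neg]
    exact fun e => hj (e ▸ hi)
  | zero => exact map_zero _
  | add x y _ _ hx hy => rw [map_add, hx, hy, add_zero]
  | smul c x _ hx => rw [map_smul, hx, smul_zero]

theorem free_compl (T : Set (Idx a n)) : Module.Free R (compl' (R := R) T) := by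
  classical
  have hli : LinearIndependent R (fun i : (Tᶜ : Set (Idx a n)) => (single i.1 : FreeMod R a n)) := by
    rw [linearIndependent_iff']
    intro s g hg i hi
    have h := congrArg (co i.1) hg
    simpa [co_single, Subtype.coe_inj, hi] using h
  have e : Submodule.span R (Set.range fun i : (Tᶜ : Set (Idx a n)) => (single i.1 : FreeMod R a n))
      = compl' T := by
    rw [compl', Set.image_eq_range]
  rw [← e]
  exact Module.Free.of_basis (Module.Basis.span hli)

/-- All leading ideals trivial: the monomials outside `T` give a complement. -/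
theorem isCompl (T : Set (Idx a n)) (h1 : ∀ i ∈ T, lead N i = ⊤) (h2 : ∀ i ∉ T, lead N i = ⊥) :
    IsCompl (N.restrictScalars R) (compl' T) := by
  classical
  constructor
  · rw [Submodule.disjoint_def]
    intro v hv hv'
    by_contra hne
    have hne' : (finite_support v).toFinset.Nonempty := by
      by_contra he
      rw [Finset.not_nonempty_iff_eq_empty] at he
      refine hne (ext_co fun i => ?_)
      rw [map_zero]
      by_contra h
      simpa [he] using (finite_support v).mem_toFinset.mpr h
    obtain ⟨i, hi, hmax⟩ := Finset.exists_max_image _ key hne'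
    have hi' : co i v ≠ 0 := (finite_support v).mem_toFinset.mp hi
    have hiT : i ∉ T := fun h => hi' (co_eq_zero_of_mem_compl hv' h)
    have hmem : co i v ∈ lead N i := ⟨v, hv, rfl, fun j hj => by
      by_contra h
      exact (hmax j ((finite_support v).mem_toFinset.mpr h)).not_gt hj⟩
    rw [h2 i hiT] at hmem
    exact hi' hmem
  · rw [codisjoint_iff, eq_top_iff, ← span_single, Submodule.span_le]
    rintro _ ⟨i, rfl⟩
    induction i using key_wf.induction with
    | _ i ih =>
      by_cases hiT : i ∈ T
      · obtain ⟨v, hv, hvi, hv'⟩ : (1 : R) ∈ lead N i := by rw [h1 i hiT]; trivial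
        have h : single i = v - ∑ j ∈ (finite_support v).toFinset.erase i, co j v • single j :=
          ext_co fun k => by
            simp only [map_sub, map_sum, map_smul, co_single, smul_eq_mul, mul_ite, mul_one,
              mul_zero, Finset.sum_ite_eq', Finset.mem_erase, Set.Finite.mem_toFinset,
              Set.mem_ofPred_eq]
            by_cases hik : i = k
            · subst hik
              simp [hvi]
            · by_cases hk : co k v = 0
              · simp [hik, hk]
              · simp [hik, hk, Ne.symm hik]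
        rw [h]
        refine sub_mem (Submodule.mem_sup_left hv) (Submodule.sum_mem _ fun j hj => ?_)
        rw [Finset.mem_erase, Set.Finite.mem_toFinset] at hj
        refine Submodule.smul_mem _ _ (ih j ?_)
        rcases lt_trichotomy (key j) (key i) with h | h | h
        · exact h
        · exact absurd (key_injective h) hj.1
        · exact absurd (hv' j h) hj.2
      · exact Submodule.mem_sup_right (Submodule.subset_span ⟨i, hiT, rfl⟩)

theorem exists_finite_generators (T : Set (Idx a n)) :
    ∃ t : Finset (Idx a n), ↑t ⊆ T ∧ ∀ i ∈ T, ∃ j ∈ t, Dvd' j i := by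
  classical
  let r := fun i j : Idx a n => Dvd' i j ∧ i ≠ j
  have hwf : WellFounded r := by
    refine Subrelation.wf (r := InvImage (· < ·) fun i : Idx a n => i.2) (fun {i j} h => ?_)
      (InvImage.wf _ wellFounded_lt)
    exact lt_of_le_of_ne h.1.2 fun e => h.2 (Prod.ext h.1.1 e)
  have hfin : {i ∈ T | ∀ j ∈ T, ¬ r j i}.Finite := by
    refine IsAntichain.finite_of_wellQuasiOrdered (r := Dvd') ?_ dvd'_wqo
    intro i hi j hj hne hij
    exact hj.2 i hi.1 ⟨hij, hne⟩
  refine ⟨hfin.toFinset, fun i hi => ((hfin.mem_toFinset).mp hi).1, fun i hi => ?_⟩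
  obtain ⟨j, ⟨hjT, hji⟩, hmin⟩ := hwf.has_min {j | j ∈ T ∧ Dvd' j i} ⟨i, hi, rfl, le_rfl⟩
  exact ⟨j, hfin.mem_toFinset.mpr ⟨hjT, fun k hk hkj => hmin k
    ⟨hk, hkj.1.1.trans hji.1, hkj.1.2.trans hji.2⟩ hkj⟩, hji⟩

/-- All leading ideals trivial: `N` is finitely generated with free quotient. -/
theorem fg_and_free (h : ∀ i, lead N i = ⊤ ∨ lead N i = ⊥) :
    N.FG ∧ Module.Free R (FreeMod R a n ⧸ N) := by
  classical
  rcases subsingleton_or_nontrivial R with hR | hR
  · haveI : Subsingleton (FreeMod R a n) := inferInstance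
    exact ⟨⟨∅, by rw [Finset.coe_empty, Submodule.span_empty]; exact Subsingleton.elim _ _⟩,
      inferInstance⟩
  let T := {i | lead N i = ⊤}
  have h2 : ∀ i ∉ T, lead N i = ⊥ := fun i hi => (h i).resolve_left hi
  have hc := isCompl N T (fun i hi => hi) h2
  refine ⟨?_, ?_⟩
  · obtain ⟨t, ht, ht'⟩ := exists_finite_generators T
    have hw : ∀ i : t, ∃ v ∈ N, co i.1 v = 1 ∧ ∀ j, key i.1 < key j → co j v = 0 := fun i => by
      have h1 : lead N i.1 = ⊤ := ht i.2
      exact (h1 ▸ Submodule.mem_top : (1 : R) ∈ lead N i.1)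
    choose w hwN hw1 hw2 using hw
    let N' := Submodule.span (MvPolynomial (Fin n) R) (Set.range w)
    have hle : N' ≤ N := Submodule.span_le.mpr (Set.range_subset_iff.mpr hwN)
    suffices N' = N by rw [← this]; exact Submodule.fg_span (Set.finite_range w)
    refine le_antisymm hle fun v hv => ?_
    have hc' := isCompl N' T (fun i hi => ?_) fun i hi => le_bot_iff.mp (h2 i hi ▸ lead_mono N hle i)
    · obtain ⟨v₀, hv₀, b, hb, rfl⟩ := Submodule.mem_sup.mp
        (hc'.sup_eq_top ▸ Submodule.mem_top (x := v))
      have : b ∈ N.restrictScalars R := by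
        have := sub_mem hv (hle hv₀)
        simpa using this
      rw [Submodule.disjoint_def.mp hc.disjoint b this hb, add_zero]
      exact hv₀
    · obtain ⟨j, hj, hji⟩ := ht' i hi
      refine (Ideal.eq_top_iff_one _).mpr (lead_le_of_dvd N' hji ?_)
      exact ⟨w ⟨j, hj⟩, Submodule.subset_span ⟨_, rfl⟩, hw1 ⟨j, hj⟩, hw2 ⟨j, hj⟩⟩
  · haveI := free_compl (R := R) T
    exact Module.Free.of_equiv ((Submodule.quotientEquivOfIsCompl _ _ hc).symm ≪≫ₗ
      (Submodule.Quotient.restrictScalarsEquiv R N))

end Groth.Agent.GenFree
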