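import Mathlib
import Groth.Agent.GenFree.Groebner

set_option autoImplicit false
set_option linter.style.haveILetI false

/-!
# Generic freeness after inverting one element
-/

universe u

open MvPolynomial TensorProduct

namespace Groth.Agent.GenFree

variable {a n : ℕ} {R : Type u} [CommRing R] (A : Type u) [CommRing A] [Algebra R A]

/-- Coefficientwise change of rings. -/
noncomputable def phi : FreeMod R a n →ₗ[R] FreeMod A a n :=
  LinearMap.pi fun s => (MvPolynomial.mapAlgHom (Algebra.ofId R A)).toLinearMap ∘ₗ LinearMap.proj s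

theorem phi_apply (v : FreeMod R a n) (s : Fin a) :
    phi A v s = MvPolynomial.map (algebraMap R A) (v s) := rfl

theorem co_phi (i : Idx a n) (v : FreeMod R a n) : co i (phi A v) = algebraMap R A (co i v) := by
  rw [co_apply, phi_apply, coeff_map]
  rfl

theorem phi_smul (p : MvPolynomial (Fin n) R) (v : FreeMod R a n) :
    phi A (p • v) = MvPolynomial.map (algebraMap R A) p • phi A v := by
  funext s
  simp [phi_apply]

variable (N : Submodule (MvPolynomial (Fin n) R) (FreeMod R a n))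

/-- The extended submodule. -/
noncomputable def locN : Submodule (MvPolynomial (Fin n) A) (FreeMod A a n) :=
  Submodule.span _ (phi A '' (N : Set (FreeMod R a n)))

theorem phi_mem {v : FreeMod R a n} (hv : v ∈ N) : phi A v ∈ locN A N :=
  Submodule.subset_span ⟨v, hv, rfl⟩

theorem locN_top : locN A (⊤ : Submodule (MvPolynomial (Fin n) R) (FreeMod R a n)) = ⊤ := by
  classical
  refine eq_top_iff.mpr fun x _ => ?_
  rw [pi_eq_sum_univ x]
  refine Submodule.sum_mem _ fun s _ => Submodule.smul_mem _ _ ?_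
  convert phi_mem A (⊤ : Submodule (MvPolynomial (Fin n) R) (FreeMod R a n))
    (v := fun t => if s = t then 1 else 0) Submodule.mem_top using 1
  funext t
  rw [phi_apply]
  split_ifs <;> simp

variable (f : R) [IsLocalization.Away f A]

theorem isUnit_f : IsUnit (algebraMap R A f) := IsLocalization.Away.algebraMap_isUnit f

theorem isUnit_map_pow (k : ℕ) : IsUnit (algebraMap R A (f ^ k)) := by
  rw [map_pow]; exact (isUnit_f A f).pow k

theorem exists_pow_smul_eq {x : FreeMod A a n} (hx : x ∈ locN A N) :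
    ∃ k : ℕ, ∃ v ∈ N, f ^ k • x = phi A v := by
  induction hx using Submodule.span_induction with
  | mem x hx =>
    obtain ⟨v, hv, rfl⟩ := hx
    exact ⟨0, v, hv, by rw [pow_zero, one_smul]⟩
  | zero => exact ⟨0, 0, N.zero_mem, by simp⟩
  | add x y _ _ hx hy =>
    obtain ⟨k, v, hv, hkv⟩ := hx
    obtain ⟨l, w, hw, hlw⟩ := hy
    refine ⟨k + l, f ^ l • v + f ^ k • w,
      N.add_mem (N.smul_of_tower_mem _ hv) (N.smul_of_tower_mem _ hw), ?_⟩
    rw [map_add, map_smul, map_smul, ← hkv, ← hlw, smul_add, smul_smul, smul_smul, ← pow_add,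
      ← pow_add, add_comm l k]
  | smul p x _ hx =>
    obtain ⟨k, v, hv, hkv⟩ := hx
    letI : Algebra (MvPolynomial (Fin n) R) (MvPolynomial (Fin n) A) :=
      (MvPolynomial.map (algebraMap R A)).toAlgebra
    haveI : IsLocalization ((Submonoid.powers f).map (C (σ := Fin n))) (MvPolynomial (Fin n) A) :=
      MvPolynomial.isLocalization _ A
    obtain ⟨⟨p₀, ⟨d, _, ⟨l, rfl⟩, rfl⟩⟩, hp⟩ :=
      IsLocalization.surj ((Submonoid.powers f).map (C (σ := Fin n))) p
    refine ⟨k + l, p₀ • v, N.smul_mem _ hv, ?_⟩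
    rw [phi_smul, ← hkv]
    have hp' : (f ^ l) • p = MvPolynomial.map (algebraMap R A) p₀ := by
      rw [← algebraMap_smul A (f ^ l) p, MvPolynomial.smul_eq_C_mul, mul_comm]
      refine Eq.trans ?_ hp
      congr 1
      exact (MvPolynomial.map_C _ _).symm
    funext s
    simp only [Pi.smul_apply, smul_eq_mul, ← hp']
    rw [pow_add, mul_comm (f ^ k), mul_smul, mul_smul_comm, smul_mul_assoc, smul_comm]

theorem exists_pow_smul_eq_zero {v : FreeMod R a n} (s : Finset (Idx a n))
    (hs : ∀ i ∈ s, algebraMap R A (co i v) = 0) : ∃ k : ℕ, ∀ i ∈ s, f ^ k * co i v = 0 := by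
  classical
  induction s using Finset.induction_on with
  | empty => exact ⟨0, by simp⟩
  | insert j s hj ih =>
    obtain ⟨k, hk⟩ := ih fun i hi => hs i (Finset.mem_insert_of_mem hi)
    obtain ⟨⟨_, l, rfl⟩, hl⟩ := (IsLocalization.map_eq_zero_iff (Submonoid.powers f) A _).mp
      (hs j (Finset.mem_insert_self _ _))
    refine ⟨k + l, fun i hi => ?_⟩
    rcases Finset.mem_insert.mp hi with rfl | hi
    · rw [pow_add, mul_assoc, hl, mul_zero]
    · rw [pow_add, mul_comm (f ^ k), mul_assoc, hk i hi, mul_zero]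

theorem exists_pow_smul_zero {v : FreeMod R a n} (hv : phi A v = 0) : ∃ k : ℕ, f ^ k • v = 0 := by
  obtain ⟨k, hk⟩ := exists_pow_smul_eq_zero A f (finite_support v).toFinset (v := v) fun i _ => by
    rw [← co_phi, hv, map_zero]
  refine ⟨k, ext_co fun i => ?_⟩
  rw [map_smul, map_zero, smul_eq_mul]
  by_cases h : co i v = 0
  · rw [h, mul_zero]
  · exact hk i ((finite_support v).mem_toFinset.mpr h)

theorem lead_locN_top {i : Idx a n} (h : ∃ k : ℕ, f ^ k ∈ lead N i) : lead (locN A N) i = ⊤ := by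
  obtain ⟨k, v, hv, h1, h2⟩ := h
  refine Ideal.eq_top_of_isUnit_mem _ ?_ (isUnit_map_pow A f k)
  exact ⟨phi A v, phi_mem A N hv, by rw [co_phi, h1], fun j hj => by rw [co_phi, h2 j hj, map_zero]⟩

theorem lead_locN_bot {i : Idx a n} (h : ∀ c ∈ lead N i, f * c = 0) : lead (locN A N) i = ⊥ := by
  refine eq_bot_iff.mpr ?_
  rintro c ⟨x, hx, rfl, hx'⟩
  obtain ⟨k, v, hv, hkv⟩ := exists_pow_smul_eq A N f hx
  classical
  obtain ⟨l, hl⟩ := exists_pow_smul_eq_zero A f
    ((finite_support v).toFinset.filter fun j => key i < key j) (v := v) fun j hj => by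
      rw [← co_phi, ← hkv, LinearMap.map_smul_of_tower, hx' j (Finset.mem_filter.mp hj).2, smul_zero]
  have h1 : f ^ l * co i v ∈ lead N i := by
    refine ⟨f ^ l • v, N.smul_of_tower_mem _ hv, map_smul _ _ _, fun j hj => ?_⟩
    rw [map_smul, smul_eq_mul]
    by_cases hj' : co j v = 0
    · rw [hj', mul_zero]
    · exact hl j (Finset.mem_filter.mpr ⟨(finite_support v).mem_toFinset.mpr hj', hj⟩)
  have h2 := congrArg (algebraMap R A) (h _ h1)
  rw [map_zero, map_mul, map_mul, ← co_phi, ← hkv, LinearMap.map_smul_of_tower, Algebra.smul_def,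
    (isUnit_f A f).mul_right_eq_zero, (isUnit_map_pow A f l).mul_right_eq_zero,
    (isUnit_map_pow A f k).mul_right_eq_zero] at h2
  exact h2

/-- The quotient map to the localized quotient. -/
noncomputable def psi : (FreeMod R a n ⧸ N) →ₗ[R] (FreeMod A a n ⧸ locN A N) :=
  ((N.restrictScalars R).liftQ (((locN A N).mkQ.restrictScalars R) ∘ₗ phi A) fun _ hv =>
      (Submodule.Quotient.mk_eq_zero _).mpr (phi_mem A N hv)) ∘ₗ
    (Submodule.Quotient.restrictScalarsEquiv R N).symm.toLinearMap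

theorem psi_mk (v : FreeMod R a n) :
    psi A N (Submodule.Quotient.mk v) = Submodule.Quotient.mk (phi A v) := rfl

theorem isLocalizedModule_psi : IsLocalizedModule (Submonoid.powers f) (psi A N) where
  map_units := by
    rintro ⟨_, k, rfl⟩
    refine (Module.End.isUnit_iff _).mpr ?_
    show Function.Bijective fun x : FreeMod A a n ⧸ locN A N => f ^ k • x
    obtain ⟨u, hu⟩ := isUnit_map_pow A f k
    refine ⟨fun x y hxy => ?_, fun y => ⟨(↑u⁻¹ : A) • y, ?_⟩⟩
    · have := congrArg (fun z => (↑u⁻¹ : A) • z) hxy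
      simpa only [← algebraMap_smul A (f ^ k), ← hu, smul_smul, Units.inv_mul, one_smul] using this
    · show f ^ k • (↑u⁻¹ : A) • y = y
      rw [← algebraMap_smul A (f ^ k), ← hu, smul_smul, Units.mul_inv, one_smul]
  surj y := by
    obtain ⟨x, rfl⟩ := Submodule.Quotient.mk_surjective _ y
    have hx : x ∈ locN A (⊤ : Submodule (MvPolynomial (Fin n) R) (FreeMod R a n)) :=
      locN_top (R := R) A ▸ Submodule.mem_top
    obtain ⟨k, v, -, hv⟩ := exists_pow_smul_eq A _ f hx
    refine ⟨⟨Submodule.Quotient.mk v, ⟨_, k, rfl⟩⟩, ?_⟩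
    rw [psi_mk, ← hv]
    rfl
  exists_of_eq := by
    intro y₁ y₂ h
    obtain ⟨x₁, rfl⟩ := Submodule.Quotient.mk_surjective _ y₁
    obtain ⟨x₂, rfl⟩ := Submodule.Quotient.mk_surjective _ y₂
    rw [psi_mk, psi_mk, Submodule.Quotient.eq, ← map_sub] at h
    obtain ⟨k, v, hv, hkv⟩ := exists_pow_smul_eq A N f h
    rw [← map_smul] at hkv
    obtain ⟨l, hl⟩ := exists_pow_smul_zero A f (v := f ^ k • (x₁ - x₂) - v)
      (by rw [map_sub, hkv, sub_self])
    refine ⟨⟨_, l + k, rfl⟩, ?_⟩
    show f ^ (l + k) • (Submodule.Quotient.mk x₁ : FreeMod R a n ⧸ N) =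
      f ^ (l + k) • Submodule.Quotient.mk x₂
    rw [← Submodule.Quotient.mk_smul,
      ← Submodule.Quotient.mk_smul, Submodule.Quotient.eq, ← smul_sub, pow_add, mul_smul]
    rw [smul_sub, sub_eq_zero] at hl
    rw [hl]
    exact N.smul_of_tower_mem _ hv

/-- An element of a nonempty family of upward closed sets which is maximal. -/
theorem exists_maximal_upper {ι : Type*} (S : Set ι) (hS : S.Nonempty) (U : ι → Set (Idx a n))
    (hU : ∀ f i j, i ∈ U f → Dvd' i j → j ∈ U f) :
    ∃ f ∈ S, ∀ f' ∈ S, U f ⊆ U f' → U f' ⊆ U f := by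
  by_contra hcon
  push Not at hcon
  choose g hgS hsub hne using hcon
  obtain ⟨f₀, hf₀⟩ := hS
  let seq : ℕ → S := fun m => Nat.rec ⟨f₀, hf₀⟩ (fun _ p => ⟨g p.1 p.2, hgS p.1 p.2⟩) m
  have hmono : Monotone fun m => U (seq m).1 :=
    monotone_nat_of_le_succ fun m => hsub (seq m).1 (seq m).2
  have hpick : ∀ m, ∃ i, i ∈ U (seq (m + 1)).1 ∧ i ∉ U (seq m).1 := fun m =>
    Set.not_subset.mp (hne (seq m).1 (seq m).2)
  choose e he he' using hpick
  obtain ⟨j, k, hjk, hd⟩ := dvd'_wqo e
  exact he' k (hmono (Nat.succ_le_of_lt hjk) (hU _ _ _ (he j) hd))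

omit [IsLocalization.Away f A] in
/-- Below any nonzero `g`: an `f` at which every leading ideal is trivial. -/
theorem exists_select {g : R} (hg : g ≠ 0) :
    ∃ f, g ∣ f ∧ f ≠ 0 ∧ ∀ i, (∃ k : ℕ, f ^ k ∈ lead N i) ∨ (∀ c ∈ lead N i, f * c = 0) := by
  obtain ⟨f, ⟨hgf, hf0⟩, hmax⟩ := exists_maximal_upper {f : R | g ∣ f ∧ f ≠ 0} ⟨g, dvd_rfl, hg⟩
    (fun f => {i : Idx a n | ∃ k : ℕ, f ^ k ∈ lead N i})
    fun f i j hi hij => hi.imp fun k hk => lead_le_of_dvd N hij hk
  refine ⟨f, hgf, hf0, fun i => or_iff_not_imp_left.mpr fun hi c hc => ?_⟩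
  by_contra hne
  refine hi (hmax (f * c) ⟨hgf.mul_right c, hne⟩ ?_ ?_)
  · rintro j ⟨k, hk⟩
    exact ⟨k, by rw [mul_pow]; exact Ideal.mul_mem_right _ _ hk⟩
  · exact ⟨1, by rw [pow_one]; exact Ideal.mul_mem_left _ _ hc⟩

/-- Generic freeness and finite presentation. -/
theorem exists_good {g : R} (hg : g ≠ 0) :
    ∃ f, g ∣ f ∧ f ≠ 0 ∧
      Module.Free (Localization.Away f) (Localization.Away f ⊗[R] (FreeMod R a n ⧸ N)) ∧
      ∃ N' ≤ N, N'.FG ∧ ∀ v ∈ N, ∃ k : ℕ, f ^ k • v ∈ N' := by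
  obtain ⟨f, hgf, hf0, hf⟩ := exists_select N hg
  refine ⟨f, hgf, hf0, ?_⟩
  obtain ⟨hfg, hfree⟩ := fg_and_free (locN (Localization.Away f) N) fun i =>
    (hf i).imp (lead_locN_top _ N f) (lead_locN_bot _ N f)
  haveI := hfree
  haveI := isLocalizedModule_psi (Localization.Away f) N f
  refine ⟨Module.Free.of_equiv (IsBaseChange.equiv
    (IsLocalizedModule.isBaseChange (Submonoid.powers f) (Localization.Away f)
      (psi (Localization.Away f) N))).symm, ?_⟩
  obtain ⟨s, hs⟩ := hfg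
  classical
  have hgen : ∀ x : s, ∃ k : ℕ, ∃ v ∈ N, f ^ k • (x : FreeMod (Localization.Away f) a n) = phi (Localization.Away f) v := fun x =>
    exists_pow_smul_eq (Localization.Away f) N f (hs ▸ Submodule.subset_span x.2)
  choose k w hwN hw using hgen
  refine ⟨Submodule.span _ (Set.range w), Submodule.span_le.mpr (Set.range_subset_iff.mpr hwN),
    Submodule.fg_span (Set.finite_range w), fun v hv => ?_⟩
  have hle : locN (Localization.Away f) N ≤
      locN (Localization.Away f) (Submodule.span _ (Set.range w)) := by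
    rw [← hs, Submodule.span_le]
    intro x hx
    obtain ⟨u, hu⟩ := isUnit_map_pow (Localization.Away f) f (k ⟨x, hx⟩)
    have hx' : x = (↑u⁻¹ : Localization.Away f) • phi _ (w ⟨x, hx⟩) := by
      rw [← hw, ← algebraMap_smul (Localization.Away f) (f ^ k ⟨x, hx⟩), ← hu, smul_smul,
        Units.inv_mul, one_smul]
    rw [hx']
    exact Submodule.smul_of_tower_mem _ _ (phi_mem _ _ (Submodule.subset_span ⟨_, rfl⟩))
  obtain ⟨l, v', hv', hlv⟩ := exists_pow_smul_eq (Localization.Away f) _ f (hle (phi_mem _ N hv))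
  rw [← map_smul] at hlv
  obtain ⟨m, hm⟩ := exists_pow_smul_zero (Localization.Away f) f (v := f ^ l • v - v')
    (by rw [map_sub, hlv, sub_self])
  refine ⟨m + l, ?_⟩
  rw [smul_sub, sub_eq_zero] at hm
  rw [pow_add, mul_smul, hm]
  exact Submodule.smul_of_tower_mem _ _ hv'

end Groth.Agent.GenFree
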