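import Mathlib
import Groth.Agent.GenFree.Main

set_option autoImplicit false
set_option linter.style.haveILetI false

/-!
# Generic freeness for finite type algebras and finite modules
-/

universe u

open TensorProduct

namespace Groth.Agent.GenFree

variable {R : Type u} [CommRing R]

/-- `M` is free after inverting `f`. -/
def FreeAt (R : Type u) [CommRing R] (M : Type u) [AddCommGroup M] [Module R M] (f : R) : Prop :=
  Module.Free (Localization.Away f) (Localization.Away f ⊗[R] M)

theorem FreeAt.free {M : Type u} [AddCommGroup M] [Module R M] {f : R} (h : FreeAt R M f)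
    (A : Type u) [CommRing A] [Algebra R A] (hu : IsUnit (algebraMap R A f)) :
    Module.Free A (A ⊗[R] M) := by
  haveI : Module.Free (Localization.Away f) (Localization.Away f ⊗[R] M) := h
  letI : Algebra (Localization.Away f) A := (IsLocalization.Away.lift f hu).toAlgebra
  haveI : IsScalarTower R (Localization.Away f) A :=
    .of_algebraMap_eq fun r => (IsLocalization.Away.lift_eq f hu r).symm
  exact Module.Free.of_equiv
    (AlgebraTensorModule.cancelBaseChange R (Localization.Away f) A A M)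

theorem FreeAt.of_dvd {M : Type u} [AddCommGroup M] [Module R M] {f g : R} (h : FreeAt R M f)
    (hd : f ∣ g) : FreeAt R M g :=
  h.free _ (isUnit_of_dvd_unit (map_dvd (algebraMap R _) hd)
    (IsLocalization.Away.algebraMap_isUnit g))

variable {S : Type u} [CommRing S] [Algebra R S] [Algebra.FiniteType R S]

/-- A finitely presented module agreeing with `M` away from `f`. -/
theorem exists_module {M : Type u} [AddCommGroup M] [Module S M] [Module R M]
    [IsScalarTower R S M] [Module.Finite S M] {g : R} (hg : g ≠ 0) :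
    ∃ f, g ∣ f ∧ f ≠ 0 ∧ FreeAt R M f ∧
      ∃ (b : ℕ) (W : Submodule S (Fin b → S)) (h : ((Fin b → S) ⧸ W) →ₗ[S] M),
        W.FG ∧ Function.Surjective h ∧ ∀ x, h x = 0 → ∃ k : ℕ, f ^ k • x = 0 := by
  obtain ⟨n, π, hπ⟩ := Algebra.FiniteType.iff_quotient_mvPolynomial''.mp ‹Algebra.FiniteType R S›
  letI := π.toRingHom.toAlgebra
  haveI : IsScalarTower R (MvPolynomial (Fin n) R) S :=
    .of_algebraMap_eq fun r => (π.commutes r).symm
  letI := Module.compHom M (algebraMap (MvPolynomial (Fin n) R) S)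
  haveI : IsScalarTower (MvPolynomial (Fin n) R) S M :=
    .of_algebraMap_smul fun _ _ => rfl
  haveI : IsScalarTower R (MvPolynomial (Fin n) R) M := .of_algebraMap_smul fun r m => by
    rw [← algebraMap_smul S (algebraMap R (MvPolynomial (Fin n) R) r) m,
      ← IsScalarTower.algebraMap_apply, algebraMap_smul]
  obtain ⟨b, q₀, hq₀⟩ := Module.Finite.exists_fin' S M
  let u : FreeMod R b n →ₗ[MvPolynomial (Fin n) R] (Fin b → S) :=
    LinearMap.pi fun s => Algebra.linearMap _ S ∘ₗ LinearMap.proj s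
  have hu : Function.Surjective u := fun x => by
    choose y hy using fun s => hπ (x s)
    exact ⟨y, funext hy⟩
  let q : FreeMod R b n →ₗ[MvPolynomial (Fin n) R] M := q₀.restrictScalars _ ∘ₗ u
  have hq : Function.Surjective q := hq₀.comp hu
  obtain ⟨f, hgf, hf0, hfree, N', hN', hfg, htors⟩ := exists_good (LinearMap.ker q) hg
  refine ⟨f, hgf, hf0, ?_, b, Submodule.span S (u '' (N' : Set (FreeMod R b n))), ?_⟩
  · show Module.Free _ _
    exact Module.Free.of_equiv
      ((q.quotKerEquivOfSurjective hq).restrictScalars R |>.baseChange R (Localization.Away f) _ _)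
  have hle : Submodule.span S (u '' (N' : Set (FreeMod R b n))) ≤ LinearMap.ker q₀ := by
    rw [Submodule.span_le]
    rintro _ ⟨v, hv, rfl⟩
    exact hN' hv
  refine ⟨Submodule.liftQ _ q₀ hle, ?_, ?_, fun x hx => ?_⟩
  · obtain ⟨s, hs⟩ := hfg
    classical
    refine ⟨s.image u, ?_⟩
    rw [Finset.coe_image]
    refine le_antisymm (Submodule.span_mono (Set.image_mono ?_)) (Submodule.span_le.mpr ?_)
    · rw [← hs]; exact Submodule.subset_span
    · rintro _ ⟨v, hv, rfl⟩
      have hv' : u v ∈ Submodule.map u (Submodule.span (MvPolynomial (Fin n) R) (s : Set _)) :=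
        ⟨v, hs.symm ▸ hv, rfl⟩
      rw [Submodule.map_span] at hv'
      exact Submodule.span_le_restrictScalars (MvPolynomial (Fin n) R) S _ hv'
  · intro m
    obtain ⟨v, rfl⟩ := hq₀ m
    exact ⟨Submodule.Quotient.mk v, rfl⟩
  · obtain ⟨y, rfl⟩ := Submodule.Quotient.mk_surjective _ x
    obtain ⟨v, rfl⟩ := hu y
    obtain ⟨k, hk⟩ := htors v hx
    refine ⟨k, ?_⟩
    rw [← Submodule.Quotient.mk_smul, Submodule.Quotient.mk_eq_zero, ← LinearMap.map_smul_of_tower]
    exact Submodule.subset_span ⟨_, hk, rfl⟩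

/-- Finite presentation of `M` away from `f`. -/
theorem fp_localizedModule {M : Type u} [AddCommGroup M] [Module S M] (s : S) {b : ℕ}
    (W : Submodule S (Fin b → S)) (hW : W.FG) (h : ((Fin b → S) ⧸ W) →ₗ[S] M)
    (hs : Function.Surjective h) (hk : ∀ x, h x = 0 → ∃ k : ℕ, s ^ k • x = 0) :
    Module.FinitePresentation (Localization.Away s) (LocalizedModule (Submonoid.powers s) M) := by
  haveI : Module.FinitePresentation S ((Fin b → S) ⧸ W) :=
    Module.finitePresentation_of_surjective W.mkQ W.mkQ_surjective (by rwa [W.ker_mkQ])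
  let mk := LocalizedModule.mkLinearMap (Submonoid.powers s) M
  haveI : IsLocalizedModule (Submonoid.powers s) (mk ∘ₗ h) :=
    { map_units := IsLocalizedModule.map_units mk
      surj := fun y => by
        obtain ⟨⟨m, t⟩, ht⟩ := IsLocalizedModule.surj (Submonoid.powers s) mk y
        obtain ⟨x, rfl⟩ := hs m
        exact ⟨⟨x, t⟩, ht⟩
      exists_of_eq := fun {x₁ x₂} hx => by
        obtain ⟨⟨t, ht⟩, hc⟩ := IsLocalizedModule.exists_of_eq (S := Submonoid.powers s) (f := mk) hx
        obtain ⟨k, hk'⟩ := hk (t • (x₁ - x₂)) (by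
          rw [map_smul, map_sub, smul_sub, sub_eq_zero]; exact hc)
        refine ⟨⟨s ^ k * t, Submonoid.mul_mem _ ⟨k, rfl⟩ ht⟩, ?_⟩
        show (s ^ k * t) • x₁ = (s ^ k * t) • x₂
        rw [← sub_eq_zero, ← smul_sub, mul_smul, hk'] }
  exact FinitePresentation.of_isBaseChange _
    (IsLocalizedModule.isBaseChange (Submonoid.powers s) (Localization.Away s) (mk ∘ₗ h))

/-- Finite presentation of `S` away from `f`. -/
theorem exists_algebra {g : R} (hg : g ≠ 0) :
    ∃ f, g ∣ f ∧ f ≠ 0 ∧ FreeAt R S f ∧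
      Algebra.FinitePresentation (Localization.Away f) (Localization.Away f ⊗[R] S) := by
  obtain ⟨n, π, hπ⟩ := Algebra.FiniteType.iff_quotient_mvPolynomial''.mp ‹Algebra.FiniteType R S›
  let q : FreeMod R 1 n →ₗ[R] S := π.toLinearMap ∘ₗ LinearMap.proj 0
  let pr : FreeMod R 1 n →ₗ[MvPolynomial (Fin n) R] MvPolynomial (Fin n) R := LinearMap.proj 0
  let N : Submodule (MvPolynomial (Fin n) R) (FreeMod R 1 n) := Submodule.comap pr (RingHom.ker π)
  obtain ⟨f, hgf, hf0, hfree, N', hN', hfg, htors⟩ := exists_good N hg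
  let J : Ideal (MvPolynomial (Fin n) R) := N'.map pr
  have hJ : J ≤ RingHom.ker π := Submodule.map_le_iff_le_comap.mpr hN'
  have hq : Function.Surjective q := fun x => by
    obtain ⟨p, rfl⟩ := hπ x
    exact ⟨fun _ => p, rfl⟩
  have hker : LinearMap.ker q = N.restrictScalars R := rfl
  refine ⟨f, hgf, hf0, ?_, ?_⟩
  · show Module.Free _ _
    exact Module.Free.of_equiv (((Submodule.Quotient.restrictScalarsEquiv R N).symm ≪≫ₗ
      Submodule.quotEquivOfEq _ _ hker.symm ≪≫ₗ q.quotKerEquivOfSurjective hq).baseChange R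
        (Localization.Away f) _ _)
  haveI : Algebra.FinitePresentation R (MvPolynomial (Fin n) R ⧸ J) :=
    Algebra.FinitePresentation.quotient (hfg.map _)
  let h : (MvPolynomial (Fin n) R ⧸ J) →ₐ[R] S := Ideal.Quotient.liftₐ J π hJ
  have hh : Function.Surjective h := fun x => by
    obtain ⟨p, rfl⟩ := hπ x
    exact ⟨Ideal.Quotient.mk J p, rfl⟩
  let Φ := Algebra.TensorProduct.map (AlgHom.id (Localization.Away f) (Localization.Away f)) h
  suffices hΦ : Function.Bijective Φ from
    Algebra.FinitePresentation.equiv (A := Localization.Away f ⊗[R] (MvPolynomial (Fin n) R ⧸ J))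
      (AlgEquiv.ofBijective Φ hΦ)
  refine ⟨?_, ?_⟩
  · refine (injective_iff_map_eq_zero Φ).mpr fun z hz => ?_
    have h1 : z ∈ RingHom.ker (Algebra.TensorProduct.map (AlgHom.id R (Localization.Away f)) h) := hz
    rw [Algebra.TensorProduct.lTensor_ker h hh] at h1
    have h2 : (RingHom.ker h).map (Algebra.TensorProduct.includeRight :
        (MvPolynomial (Fin n) R ⧸ J) →ₐ[R] Localization.Away f ⊗[R] _) = ⊥ := by
      rw [Ideal.map_eq_bot_iff_le_ker]
      intro x hx
      obtain ⟨p, rfl⟩ := Ideal.Quotient.mk_surjective x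
      obtain ⟨k, hk⟩ := htors (fun _ => p) hx
      have h3 : f ^ k • Ideal.Quotient.mk J p = 0 := by
        rw [← Ideal.Quotient.mkₐ_eq_mk R, ← map_smul, Ideal.Quotient.mkₐ_eq_mk,
          Ideal.Quotient.eq_zero_iff_mem]
        exact ⟨_, hk, rfl⟩
      show (1 : Localization.Away f) ⊗ₜ[R] Ideal.Quotient.mk J p = 0
      obtain ⟨v, hv⟩ := isUnit_map_pow (Localization.Away f) f k
      have h4 : (1 : Localization.Away f) = f ^ k • (↑v⁻¹ : Localization.Away f) := by
        rw [Algebra.smul_def, ← hv, Units.mul_inv]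
      rw [h4, smul_tmul, h3, tmul_zero]
    rw [h2] at h1
    exact h1
  · intro z
    induction z using TensorProduct.induction_on with
    | zero => exact ⟨0, map_zero _⟩
    | tmul a x =>
      obtain ⟨y, rfl⟩ := hh x
      exact ⟨a ⊗ₜ y, Algebra.TensorProduct.map_tmul _ _ _ _⟩
    | add x y hx hy =>
      obtain ⟨x', rfl⟩ := hx
      obtain ⟨y', rfl⟩ := hy
      exact ⟨x' + y', map_add _ _ _⟩

/-- Generic freeness. -/
theorem exists_generic {M : Type u} [AddCommGroup M] [Module S M] [Module R M]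
    [IsScalarTower R S M] [Module.Finite S M] {g : R} (hg : g ≠ 0) :
    ∃ f, g ∣ f ∧ f ≠ 0 ∧ FreeAt R M f ∧ FreeAt R S f ∧
      Algebra.FinitePresentation (Localization.Away f) (Localization.Away f ⊗[R] S) ∧
      Module.FinitePresentation (Localization.Away (algebraMap R S f))
        (LocalizedModule (Submonoid.powers (algebraMap R S f)) M) := by
  obtain ⟨f₁, hgf₁, hf₁, hM, b, W, h, hW, hs, hk⟩ := exists_module (S := S) (M := M) hg
  obtain ⟨f, hf₁f, hf, hS, hfp⟩ := exists_algebra (S := S) hf₁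
  refine ⟨f, hgf₁.trans hf₁f, hf, hM.of_dvd hf₁f, hS, hfp, ?_⟩
  refine fp_localizedModule (algebraMap R S f) W hW h hs fun x hx => ?_
  obtain ⟨k, hk'⟩ := hk x hx
  obtain ⟨c, rfl⟩ := hf₁f
  exact ⟨k, by rw [← map_pow, algebraMap_smul, mul_pow, mul_comm, mul_smul, hk', smul_zero]⟩

end Groth.Agent.GenFree
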