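import Mathlib
import Groth.Agent.GenFree.Algebra

set_option autoImplicit false
set_option linter.style.haveILetI false

/-!
# The good open set of generic freeness
-/

universe u

open TensorProduct

namespace Groth.Agent.GenFree

variable {R : Type u} [CommRing R]

theorem FreeAt.localizedModule {M : Type u} [AddCommGroup M] [Module R M] {f : R}
    (h : FreeAt R M f) :
    Module.Free (Localization.Away f) (LocalizedModule (Submonoid.powers f) M) := by
  haveI : Module.Free (Localization.Away f) (Localization.Away f ⊗[R] M) := h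
  exact Module.Free.of_equiv (LocalizedModule.equivTensorProduct (Submonoid.powers f) M).symm

theorem awayMap_finitePresentation {S : Type u} [CommRing S] [Algebra R S] {f : R}
    (h : Algebra.FinitePresentation (Localization.Away f) (Localization.Away f ⊗[R] S)) :
    (Localization.awayMap (algebraMap R S) f).FinitePresentation := by
  letI := (Localization.awayMap (algebraMap R S) f).toAlgebra
  haveI : IsScalarTower R (Localization.Away f) (Localization.Away (algebraMap R S f)) :=
    .of_algebraMap_eq fun r => by
      rw [RingHom.algebraMap_toAlgebra, Localization.awayMap, IsLocalization.Away.map,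
        IsLocalization.map_eq]
      exact IsScalarTower.algebraMap_apply R S _ r
  haveI : IsLocalization (Algebra.algebraMapSubmonoid S (Submonoid.powers f))
      (Localization.Away (algebraMap R S f)) := by
    rw [show Algebra.algebraMapSubmonoid S (Submonoid.powers f) =
      Submonoid.powers (algebraMap R S f) from Submonoid.map_powers _ _]
    infer_instance
  haveI := (Algebra.isPushout_of_isLocalization (Submonoid.powers f) (Localization.Away f) S
    (Localization.Away (algebraMap R S f))).symm
  haveI := h
  exact RingHom.finitePresentation_algebraMap.mpr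
    (Algebra.FinitePresentation.equiv
      (Algebra.IsPushout.equiv R (Localization.Away f) S (Localization.Away (algebraMap R S f))))

theorem exists_dense {P : R → Prop} [IsReduced R] (h : ∀ g : R, g ≠ 0 → ∃ f, g ∣ f ∧ f ≠ 0 ∧ P f) :
    ∃ U : Set (PrimeSpectrum R), IsOpen U ∧ Dense U ∧ ∀ u ∈ U, ∃ f : R, f ∉ u.asIdeal ∧
      (PrimeSpectrum.basicOpen f : Set (PrimeSpectrum R)) ⊆ U ∧ P f := by
  refine ⟨⋃ f ∈ {f | P f}, (PrimeSpectrum.basicOpen f : Set (PrimeSpectrum R)),
    isOpen_biUnion fun f _ => (PrimeSpectrum.basicOpen f).2, ?_, fun u hu => ?_⟩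
  · rw [dense_iff_inter_open]
    intro V hV hVne
    obtain ⟨x, hx⟩ := hVne
    obtain ⟨_, ⟨g, rfl⟩, hxg, hgV⟩ :=
      PrimeSpectrum.isTopologicalBasis_basic_opens.exists_subset_of_mem_open hx hV
    have hg : g ≠ 0 := fun e => hxg (by rw [e]; exact Ideal.zero_mem _)
    obtain ⟨f, hgf, hf, hPf⟩ := h g hg
    obtain ⟨p, hp⟩ : ∃ p : PrimeSpectrum R, f ∉ p.asIdeal := by
      by_contra hcon
      push Not at hcon
      exact hf ((nilpotent_iff_mem_prime.mpr fun J hJ => hcon ⟨J, hJ⟩).eq_zero)
    obtain ⟨c, rfl⟩ := hgf
    exact ⟨p, hgV fun hg' => hp (Ideal.mul_mem_right _ _ hg'), Set.mem_biUnion hPf hp⟩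
  · obtain ⟨f, hPf, hu⟩ := Set.mem_iUnion₂.mp hu
    exact ⟨f, hu, fun x hx => Set.mem_biUnion hPf hx, hPf⟩

end Groth.Agent.GenFree
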