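import Mathlib
import Groth.Agent.GenFree.Open

set_option autoImplicit false
set_option backward.isDefEq.respectTransparency false
set_option backward.defeqAttrib.useBackward true
set_option linter.style.haveILetI false

/-!
# Generic flatness for schemes
-/

universe u

open CategoryTheory AlgebraicGeometry TensorProduct

namespace Groth.Agent.GenFree

theorem good_of_isLocalization {R S R' S' : Type u} [CommRing R] [CommRing S] [CommRing R']
    [CommRing S'] [Algebra R S] [Algebra R R'] [Algebra S S'] [Algebra R' S'] [Algebra R S']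
    [IsScalarTower R S S'] [IsScalarTower R R' S'] (f : R) [IsLocalization.Away f R']
    [IsLocalization.Away (algebraMap R S f) S'] (hfree : FreeAt R S f)
    (hfp : Algebra.FinitePresentation (Localization.Away f) (Localization.Away f ⊗[R] S)) :
    Module.Flat R' S' ∧ Algebra.FinitePresentation R' S' := by
  haveI : IsLocalization (Algebra.algebraMapSubmonoid S (Submonoid.powers f)) S' := by
    rw [show Algebra.algebraMapSubmonoid S (Submonoid.powers f) =
      Submonoid.powers (algebraMap R S f) from Submonoid.map_powers _ _]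
    infer_instance
  haveI := (Algebra.isPushout_of_isLocalization (Submonoid.powers f) R' S S').symm
  let e := Algebra.IsPushout.equiv R R' S S'
  refine ⟨?_, ?_⟩
  · haveI := hfree.free R' (IsLocalization.Away.algebraMap_isUnit f)
    exact Module.Flat.of_linearEquiv e.symm.toLinearEquiv
  · let u : Localization.Away f →ₐ[R] R' :=
      (IsLocalization.algEquiv (Submonoid.powers f) (Localization.Away f) R').toAlgHom
    letI := u.toRingHom.toAlgebra
    haveI : IsScalarTower R (Localization.Away f) R' := .of_algebraMap_eq fun r => (u.commutes r).symm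
    haveI := hfp
    haveI : Algebra.FinitePresentation R'
        (R' ⊗[Localization.Away f] (Localization.Away f ⊗[R] S)) := inferInstance
    have e' : R' ⊗[Localization.Away f] (Localization.Away f ⊗[R] S) ≃ₐ[R'] R' ⊗[R] S :=
      Algebra.TensorProduct.cancelBaseChange R (Localization.Away f) R' R' S
    exact Algebra.FinitePresentation.equiv
      (A := R' ⊗[Localization.Away f] (Localization.Away f ⊗[R] S)) (e'.trans e)

/-- The affine step. -/
theorem exists_good_affine {W S : Scheme.{u}} [IsAffine W] [IsReduced S] (h : W ⟶ S)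
    [LocallyOfFiniteType h] {V : S.Opens} (hV : IsAffineOpen V) (hW : ⊤ ≤ h ⁻¹ᵁ V)
    (V₁ : S.Opens) (hle : V₁ ≤ V) (hne : (V₁ : Set S).Nonempty) :
    ∃ D ≤ V₁, (D : Set S).Nonempty ∧ Flat (h ∣_ D) ∧ LocallyOfFinitePresentation (h ∣_ D) := by
  obtain ⟨x, hx⟩ := hne
  obtain ⟨g, hg, hxg⟩ := hV.exists_basicOpen_le ⟨x, hx⟩ (hle hx)
  have hg0 : g ≠ 0 := fun e => by
    have h0 : x ∈ S.basicOpen (0 : Γ(S, V)) := e ▸ hxg
    simp at h0
  have hW' : IsAffineOpen (⊤ : W.Opens) := isAffineOpen_top W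
  algebraize [(h.appLE V ⊤ hW).hom]
  haveI : Algebra.FiniteType Γ(S, V) Γ(W, ⊤) :=
    RingHom.finiteType_algebraMap.mp (h.finiteType_appLE hV hW' hW)
  obtain ⟨f, hgf, hf0, hS, hfp⟩ := exists_algebra (S := Γ(W, ⊤)) hg0
  have hfg : S.basicOpen f ≤ S.basicOpen g := by
    obtain ⟨c, rfl⟩ := hgf
    rw [Scheme.basicOpen_mul]
    exact inf_le_left
  refine ⟨S.basicOpen f, hfg.trans hg, ?_, ?_⟩
  · refine Set.nonempty_iff_ne_empty.mpr fun he => hf0 ?_
    exact (AlgebraicGeometry.basicOpen_eq_bot_iff f).mp (TopologicalSpace.Opens.ext he)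
  have he : h ⁻¹ᵁ S.basicOpen f = W.basicOpen (h.appLE V ⊤ hW f) := by
    rw [Scheme.Hom.appLE, CommRingCat.comp_apply, Scheme.basicOpen_res, ← Scheme.preimage_basicOpen,
      top_inf_eq]
  have hD' : IsAffineOpen (h ⁻¹ᵁ S.basicOpen f) := he ▸ hW'.basicOpen _
  let i := homOfLE (le_top : h ⁻¹ᵁ S.basicOpen f ≤ ⊤)
  letI := (S.presheaf.map (homOfLE (S.basicOpen_le f)).op).hom.toAlgebra
  letI := (W.presheaf.map i.op).hom.toAlgebra
  letI := (h.app (S.basicOpen f)).hom.toAlgebra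
  letI : Algebra Γ(S, V) Γ(W, h ⁻¹ᵁ S.basicOpen f) :=
    (h.appLE V ⊤ hW ≫ W.presheaf.map i.op).hom.toAlgebra
  haveI : IsScalarTower Γ(S, V) Γ(W, ⊤) Γ(W, h ⁻¹ᵁ S.basicOpen f) :=
    .of_algebraMap_eq fun _ => rfl
  haveI : IsScalarTower Γ(S, V) Γ(S, S.basicOpen f) Γ(W, h ⁻¹ᵁ S.basicOpen f) :=
    .of_algebraMap_eq fun r => by
      show (h.appLE V ⊤ hW ≫ W.presheaf.map i.op) r =
        (S.presheaf.map (homOfLE (S.basicOpen_le f)).op ≫ h.app (S.basicOpen f)) r
      rw [Scheme.Hom.appLE_map, h.naturality, Scheme.Hom.appLE]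
      rfl
  haveI := hV.isLocalization_basicOpen f
  haveI : IsLocalization.Away (algebraMap Γ(S, V) Γ(W, ⊤) f) Γ(W, h ⁻¹ᵁ S.basicOpen f) :=
    hW'.isLocalization_of_eq_basicOpen _ i he
  obtain ⟨h1, h2⟩ := good_of_isLocalization (R' := Γ(S, S.basicOpen f))
    (S' := Γ(W, h ⁻¹ᵁ S.basicOpen f)) f hS hfp
  haveI : IsAffine (S.basicOpen f).toScheme := hV.basicOpen f
  haveI : IsAffine (h ⁻¹ᵁ S.basicOpen f).toScheme := hD'
  refine ⟨?_, ?_⟩
  · rw [HasRingHomProperty.iff_of_isAffine (P := @Flat), morphismRestrict_appTop]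
    refine (RingHom.Flat.respectsIso.cancel_right_isIso _ _).mpr ?_
    rw [(S.basicOpen f).ι_image_top]
    exact RingHom.flat_algebraMap_iff.mpr h1
  · rw [HasRingHomProperty.iff_of_isAffine (P := @LocallyOfFinitePresentation),
      morphismRestrict_appTop]
    refine (RingHom.finitePresentation_respectsIso.cancel_right_isIso _ _).mpr ?_
    rw [(S.basicOpen f).ι_image_top]
    exact RingHom.finitePresentation_algebraMap.mpr h2

theorem good_mono {X S : Scheme.{u}} (f : X ⟶ S) {U V : S.Opens} (hUV : U ≤ V)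
    (h : Flat (f ∣_ V) ∧ LocallyOfFinitePresentation (f ∣_ V)) :
    Flat (f ∣_ U) ∧ LocallyOfFinitePresentation (f ∣_ U) := by
  have e : V.ι ''ᵁ (V.ι ⁻¹ᵁ U) = U := by
    rw [Scheme.Hom.image_preimage_eq_opensRange_inf, Scheme.Opens.opensRange_ι, inf_eq_right]
    exact hUV
  let α := morphismRestrictRestrict f V (V.ι ⁻¹ᵁ U) ≪≫ morphismRestrictEq f e
  exact ⟨(MorphismProperty.arrow_mk_iso_iff @Flat α).mp (IsZariskiLocalAtTarget.restrict h.1 _),
    (MorphismProperty.arrow_mk_iso_iff @LocallyOfFinitePresentation α).mp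
      (IsZariskiLocalAtTarget.restrict h.2 _)⟩

theorem exists_good_open {X S : Scheme.{u}} (f : X ⟶ S) [IsReduced S] [LocallyOfFiniteType f]
    [QuasiCompact f] :
    ∃ U : S.Opens, Dense (U : Set S) ∧ Flat (f ∣_ U) ∧ LocallyOfFinitePresentation (f ∣_ U) := by
  classical
  let G := fun V : S.Opens => Flat (f ∣_ V) ∧ LocallyOfFinitePresentation (f ∣_ V)
  let U : S.Opens := ⨆ V : {V // G V}, V.1
  refine ⟨U, ?_, ?_⟩
  · rw [dense_iff_inter_open]
    intro O hO hne
    obtain ⟨x, hx⟩ := hne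
    obtain ⟨_, ⟨V : S.Opens, hV, rfl⟩, hxV, hVO⟩ :=
      S.isBasis_affineOpens.exists_subset_of_mem_open hx hO
    obtain ⟨s, hsfin, hs⟩ : ∃ s : Set X.affineOpens, s.Finite ∧
        (f ⁻¹ᵁ V : Set X) = ⋃ i ∈ s, (i.1 : Set X) :=
      isCompact_and_isOpen_iff_finite_and_eq_biUnion_affineOpens.mp
        ⟨f.isCompact_preimage hV.isCompact, (f ⁻¹ᵁ V).2⟩
    have hsub : ∀ i ∈ hsfin.toFinset, i.1 ≤ f ⁻¹ᵁ V := fun i hi z hz => by
      show z ∈ (f ⁻¹ᵁ V : Set X)
      rw [hs]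
      exact Set.mem_biUnion (hsfin.mem_toFinset.mp hi) hz
    have key : ∀ t : Finset X.affineOpens, (∀ i ∈ t, i.1 ≤ f ⁻¹ᵁ V) →
        ∃ D ≤ V, (D : Set S).Nonempty ∧ ∀ i ∈ t, Flat ((i.1.ι ≫ f) ∣_ D) ∧
          LocallyOfFinitePresentation ((i.1.ι ≫ f) ∣_ D) := by
      intro t
      induction t using Finset.induction_on with
      | empty => exact fun _ => ⟨V, le_rfl, ⟨x, hxV⟩, fun i hi => absurd hi (Finset.notMem_empty i)⟩
      | insert j t hj ih =>
        intro hle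
        obtain ⟨D, hDV, hDne, hD⟩ := ih fun i hi => hle i (Finset.mem_insert_of_mem hi)
        haveI : IsAffine j.1.toScheme := j.2
        obtain ⟨D', hD'D, hD'ne, hD'⟩ := exists_good_affine (j.1.ι ≫ f) hV
          (fun z _ => hle j (Finset.mem_insert_self _ _) z.2) D hDV hDne
        refine ⟨D', hD'D.trans hDV, hD'ne, fun i hi => ?_⟩
        rcases Finset.mem_insert.mp hi with rfl | hi
        · exact hD'
        · exact good_mono _ hD'D (hD i hi)
    obtain ⟨D, hDV, ⟨y, hy⟩, hD⟩ := key hsfin.toFinset hsub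
    have hG : G D := by
      let U' : s → (f ⁻¹ᵁ D).toScheme.Opens := fun i => (f ⁻¹ᵁ D).ι ⁻¹ᵁ i.1.1
      have hU' : ⨆ i, U' i = ⊤ := by
        refine eq_top_iff.mpr fun z _ => ?_
        have hz : z.1 ∈ (f ⁻¹ᵁ V : Set X) := hDV z.2
        rw [hs] at hz
        obtain ⟨i, hi, hzi⟩ := Set.mem_iUnion₂.mp hz
        exact TopologicalSpace.Opens.mem_iSup.mpr ⟨⟨i, hi⟩, hzi⟩
      have h' : ∀ i : s, Flat ((U' i).ι ≫ f ∣_ D) ∧
          LocallyOfFinitePresentation ((U' i).ι ≫ f ∣_ D) := by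
        intro i
        obtain ⟨h1, h2⟩ := hD i.1 (hsfin.mem_toFinset.mpr i.2)
        let φ : (U' i).toScheme ⟶ ((i.1.1.ι ≫ f) ⁻¹ᵁ D).toScheme :=
          IsOpenImmersion.lift (((i.1.1.ι ≫ f) ⁻¹ᵁ D).ι ≫ i.1.1.ι) ((U' i).ι ≫ (f ⁻¹ᵁ D).ι) (by
            rintro _ ⟨z, rfl⟩
            exact ⟨⟨⟨_, z.2⟩, z.1.2⟩, rfl⟩)
        haveI : IsOpenImmersion φ := by
          haveI : IsOpenImmersion (φ ≫ ((i.1.1.ι ≫ f) ⁻¹ᵁ D).ι ≫ i.1.1.ι) := by
            rw [IsOpenImmersion.lift_fac]; infer_instance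
          exact IsOpenImmersion.of_comp φ (((i.1.1.ι ≫ f) ⁻¹ᵁ D).ι ≫ i.1.1.ι)
        have e : (U' i).ι ≫ f ∣_ D = φ ≫ (i.1.1.ι ≫ f) ∣_ D := by
          rw [← cancel_mono D.ι, Category.assoc, Category.assoc, morphismRestrict_ι,
            morphismRestrict_ι]
          have := IsOpenImmersion.lift_fac (((i.1.1.ι ≫ f) ⁻¹ᵁ D).ι ≫ i.1.1.ι)
            ((U' i).ι ≫ (f ⁻¹ᵁ D).ι) (by
              rintro _ ⟨z, rfl⟩
              exact ⟨⟨⟨_, z.2⟩, z.1.2⟩, rfl⟩)
          simp only [← Category.assoc] at this ⊢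
          rw [← this]
        rw [e]
        exact ⟨inferInstance, inferInstance⟩
      exact ⟨IsZariskiLocalAtSource.of_iSup_eq_top U' hU' fun i => (h' i).1,
        IsZariskiLocalAtSource.of_iSup_eq_top U' hU' fun i => (h' i).2⟩
    exact ⟨y, hVO (hDV hy), TopologicalSpace.Opens.mem_iSup.mpr ⟨⟨D, hG⟩, hy⟩⟩
  · have hsup : ∀ V : {V // G V}, V.1 ≤ U := fun V => le_iSup (fun V : {V // G V} => V.1) V
    let U'' : {V // G V} → U.toScheme.Opens := fun V => U.ι ⁻¹ᵁ V.1
    have hU'' : ⨆ V, U'' V = ⊤ := by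
      refine eq_top_iff.mpr fun z _ => ?_
      obtain ⟨V, hV⟩ := TopologicalSpace.Opens.mem_iSup.mp z.2
      exact TopologicalSpace.Opens.mem_iSup.mpr ⟨V, hV⟩
    have e : ∀ V : {V // G V}, U.ι ''ᵁ U'' V = V.1 := fun V => by
      rw [Scheme.Hom.image_preimage_eq_opensRange_inf, Scheme.Opens.opensRange_ι, inf_eq_right]
      exact hsup V
    exact ⟨IsZariskiLocalAtTarget.of_iSup_eq_top U'' hU'' fun V => (MorphismProperty.arrow_mk_iso_iff
        @Flat (morphismRestrictRestrict f U (U'' V) ≪≫ morphismRestrictEq f (e V))).mpr V.2.1,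
      IsZariskiLocalAtTarget.of_iSup_eq_top U'' hU'' fun V => (MorphismProperty.arrow_mk_iso_iff
        @LocallyOfFinitePresentation
        (morphismRestrictRestrict f U (U'' V) ≪≫ morphismRestrictEq f (e V))).mpr V.2.2⟩

end Groth.Agent.GenFree
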