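import Groth.Prelude.Def_FlatMod2
import Groth.Agent.QCohLib.FiniteType
import Groth.Agent.GenFree.Scheme

set_option autoImplicit false
set_option backward.isDefEq.respectTransparency false
set_option backward.defeqAttrib.useBackward true
set_option linter.style.haveILetI false

/-!
# Generic flatness for quasi-coherent modules
-/

universe u

open CategoryTheory AlgebraicGeometry TensorProduct TopologicalSpace Opposite
open Groth.Agent.CohBase

namespace Groth.Agent.GenFree

theorem flat_localized_of_freeAt {R A M N : Type u} [CommRing R] [CommRing A] [Algebra R A]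
    [AddCommGroup M] [Module A M] [Module R M] [IsScalarTower R A M]
    [AddCommGroup N] [Module A N] [Module R N] [IsScalarTower R A N]
    (f : R) (h : FreeAt R M f) (T : Submonoid A) (hfT : algebraMap R A f ∈ T)
    (g : M →ₗ[A] N) [IsLocalizedModule T g] : Module.Flat R N := by
  haveI : Module.Free (Localization.Away f) (Localization.Away f ⊗[R] M) := h
  haveI : Module.Flat R (Localization.Away f) := IsLocalization.flat _ (Submonoid.powers f)
  haveI : Module.Flat R (Localization.Away f ⊗[R] M) :=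
    Module.Flat.trans R (Localization.Away f) _
  rw [Module.Flat.iff_lTensor_injectiveₛ]
  intro P _ _ Q
  have key : ∀ z : M ⊗[R] Q, Q.subtype.lTensor M z = 0 → ∃ k : ℕ, f ^ k • z = 0 := by
    intro z hz
    let j : M →ₗ[R] Localization.Away f ⊗[R] M := TensorProduct.mk R (Localization.Away f) M 1
    have h1 : j.rTensor Q z = 0 := by
      apply Module.Flat.lTensor_preserves_injective_linearMap
        (M := Localization.Away f ⊗[R] M) Q.subtype Q.subtype_injective
      rw [map_zero, ← LinearMap.comp_apply, LinearMap.lTensor_comp_rTensor,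
        ← LinearMap.rTensor_comp_lTensor, LinearMap.comp_apply, hz, map_zero]
    let e := TensorProduct.assoc R (Localization.Away f) M Q
    have h2 : (TensorProduct.mk R (Localization.Away f) (M ⊗[R] Q) 1) z = 0 := by
      have h3 : e.toLinearMap ∘ₗ j.rTensor Q =
          TensorProduct.mk R (Localization.Away f) (M ⊗[R] Q) 1 := by
        ext m q
        rfl
      rw [← h3, LinearMap.comp_apply, h1, map_zero]
    obtain ⟨⟨_, k, rfl⟩, hk⟩ :=
      (IsLocalizedModule.eq_zero_iff (Submonoid.powers f) _).mp h2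
    exact ⟨k, hk⟩
  rw [injective_iff_map_eq_zero]
  intro z hz
  let gQ := AlgebraTensorModule.rTensor R Q g
  let gP := AlgebraTensorModule.rTensor R P g
  obtain ⟨⟨z₀, s⟩, hs⟩ := IsLocalizedModule.surj T gQ z
  have h1 : gP (Q.subtype.lTensor M z₀) = 0 := by
    have h2 : gP (Q.subtype.lTensor M z₀) = Q.subtype.lTensor N (gQ z₀) := by
      show (g.restrictScalars R).rTensor P (Q.subtype.lTensor M z₀) =
        Q.subtype.lTensor N ((g.restrictScalars R).rTensor Q z₀)
      rw [← LinearMap.comp_apply, LinearMap.rTensor_comp_lTensor,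
        ← LinearMap.lTensor_comp_rTensor, LinearMap.comp_apply]
    rw [h2, ← hs, ← AlgebraTensorModule.coe_lTensor (A := A), Submonoid.smul_def, map_smul,
      AlgebraTensorModule.coe_lTensor, hz, smul_zero]
  obtain ⟨t, ht⟩ := (IsLocalizedModule.eq_zero_iff T gP).mp h1
  obtain ⟨k, hk⟩ := key ((t : A) • z₀) (by
    rw [← AlgebraTensorModule.coe_lTensor (A := A), map_smul, AlgebraTensorModule.coe_lTensor]
    exact ht)
  have hu : IsUnit (algebraMap A (Module.End A (N ⊗[R] Q)) (algebraMap R A (f ^ k) * t * s)) :=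
    IsLocalizedModule.map_units gQ
      ⟨_, T.mul_mem (T.mul_mem (by rw [map_pow]; exact T.pow_mem hfT k) t.2) s.2⟩
  apply ((Module.End.isUnit_iff _).mp hu).1
  rw [map_zero, Module.algebraMap_end_apply, mul_smul, ← Submonoid.smul_def, hs, ← map_smul,
    mul_smul, algebraMap_smul, hk, map_zero]

variable {X : Scheme.{u}}

/-- The germ map as a linear map over the sections on `W`. -/
theorem germ_sc (M : X.Modules) {W V : X.Opens} (hVW : V ≤ W) (x : X) (hx : x ∈ V) (a : Γ(X, W))
    (s : Γ(M, V)) :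
    M.presheaf.germ V x hx (sc a hVW s) =
      X.presheaf.germ W x (hVW hx) a • M.presheaf.germ V x hx s := by
  rw [sc_apply]
  refine (PresheafOfModules.germ_smul (R := X.presheaf) M.val x V hx _ s).trans ?_
  congr 1
  exact X.presheaf.germ_res_apply (homOfLE hVW) x hx a

/-- The stalk of a quasi-coherent module as a localization of its sections. -/
theorem exists_isLocalizedModule_germ (M : X.Modules) [Coh.IsQCoh M] {W : X.Opens}
    (hW : IsAffineOpen W) (x : X) (hx : x ∈ W) :
    letI := Module.compHom (M.presheaf.stalk x) (X.presheaf.germ W x hx).hom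
    ∃ g : Γ(M, W) →ₗ[Γ(X, W)] M.presheaf.stalk x,
      IsLocalizedModule (hW.primeIdealOf ⟨x, hx⟩).asIdeal.primeCompl g := by
  letI := Module.compHom (M.presheaf.stalk x) (X.presheaf.germ W x hx).hom
  let g : Γ(M, W) →ₗ[Γ(X, W)] M.presheaf.stalk x :=
    { toFun := M.presheaf.germ W x hx
      map_add' := fun a b => map_add _ a b
      map_smul' := fun a s => PresheafOfModules.germ_smul (R := X.presheaf) M.val x W hx a s }
  have hmem : ∀ a : Γ(X, W), a ∈ (hW.primeIdealOf ⟨x, hx⟩).asIdeal.primeCompl ↔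
      x ∈ X.basicOpen a := fun a => by
    have h := SetLike.ext_iff.mp (hW.fromSpec_preimage_basicOpen a) (hW.primeIdealOf ⟨x, hx⟩)
    rw [Scheme.Hom.mem_preimage, hW.fromSpec_primeIdealOf] at h
    exact h.symm
  have hloc := QCohLib.locAt M hW
  refine ⟨g, ⟨fun a => ?_, fun y => ?_, fun {s₁ s₂} h => ?_⟩⟩
  · obtain ⟨u, hu⟩ := (X.mem_basicOpen a.1 x hx).mp ((hmem a.1).mp a.2)
    refine (Module.End.isUnit_iff _).mpr ?_
    show Function.Bijective fun v : M.presheaf.stalk x => X.presheaf.germ W x hx a.1 • v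
    rw [← hu]
    exact MulAction.bijective u
  · obtain ⟨V, hxV, t, rfl⟩ := TopCat.Presheaf.exists_germ_eq M.presheaf y
    obtain ⟨a, ha, hxa⟩ := hW.exists_basicOpen_le ⟨x, hxV⟩ hx
    obtain ⟨n, s, hs⟩ := hloc.extend a (M.presheaf.map (homOfLE ha).op t)
    refine ⟨⟨s, ⟨a ^ n, (Submonoid.pow_mem _ ((hmem a).mpr hxa) n)⟩⟩, ?_⟩
    show X.presheaf.germ W x hx (a ^ n) • M.presheaf.germ V x hxV t = M.presheaf.germ W x hx s
    rw [← M.presheaf.germ_res_apply (homOfLE (X.basicOpen_le a)) x hxa s, hs,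
      germ_sc M (X.basicOpen_le a) x hxa]
    congr 1
    exact (M.presheaf.germ_res_apply (homOfLE ha) x hxa t).symm
  · obtain ⟨V, hxV, i₁, i₂, hV⟩ := TopCat.Presheaf.germ_eq M.presheaf x hx hx s₁ s₂ h
    obtain ⟨a, ha, hxa⟩ := hW.exists_basicOpen_le ⟨x, hxV⟩ hx
    have h0 : M.presheaf.map (homOfLE (X.basicOpen_le a)).op (s₁ - s₂) = 0 := by
      rw [map_sub, sub_eq_zero, ← restr_trans M i₁.le ha, ← restr_trans M i₂.le ha]
      exact congrArg _ hV
    obtain ⟨n, hn⟩ := hloc.kill a _ h0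
    refine ⟨⟨a ^ n, Submonoid.pow_mem _ ((hmem a).mpr hxa) n⟩, ?_⟩
    rw [sc_apply, smul_sub, sub_eq_zero] at hn
    show a ^ n • s₁ = a ^ n • s₂
    have e : X.presheaf.map (homOfLE (le_refl W)).op (a ^ n) = a ^ n := by
      rw [show homOfLE (le_refl W) = 𝟙 W from rfl, op_id, CategoryTheory.Functor.map_id]
      rfl
    rwa [e] at hn

/-- Flatness at a point from generic freeness. -/
theorem isFlatOverAt_of_freeAt {Y : Scheme.{u}} (u : X ⟶ Y) (M : X.Modules) [Coh.IsQCoh M]
    {V : Y.Opens} (hV : IsAffineOpen V) {W : X.Opens} (hW : IsAffineOpen W) (hWV : W ≤ u ⁻¹ᵁ V)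
    (f : Γ(Y, V))
    (h : letI := Module.compHom Γ(M, W) (u.appLE V W hWV).hom
      FreeAt Γ(Y, V) Γ(M, W) f)
    (x : X) (hx : x ∈ W) (hxf : u x ∈ Y.basicOpen f) : FlatMod.IsFlatOverAt u M x := by
  letI := (u.appLE V W hWV).hom.toAlgebra
  letI := Module.compHom Γ(M, W) (u.appLE V W hWV).hom
  haveI : IsScalarTower Γ(Y, V) Γ(X, W) Γ(M, W) := .of_algebraMap_smul fun _ _ => rfl
  letI := FlatMod.moduleStalkOver u M x
  letI := Module.compHom (M.presheaf.stalk x) (X.presheaf.germ W x hx).hom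
  obtain ⟨g, hg⟩ := exists_isLocalizedModule_germ M hW x hx
  letI := Module.compHom (M.presheaf.stalk x)
    ((X.presheaf.germ W x hx).hom.comp (u.appLE V W hWV).hom)
  haveI : IsScalarTower Γ(Y, V) Γ(X, W) (M.presheaf.stalk x) :=
    .of_algebraMap_smul fun _ _ => rfl
  haveI := hg
  haveI hflat : Module.Flat Γ(Y, V) (M.presheaf.stalk x) := by
    refine flat_localized_of_freeAt f h (hW.primeIdealOf ⟨x, hx⟩).asIdeal.primeCompl ?_ g
    have h1 : (hW.primeIdealOf ⟨x, hx⟩).asIdeal.comap (u.appLE V W hWV).hom =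
        (hV.primeIdealOf ⟨u x, hWV hx⟩).asIdeal :=
      congr($(IsAffineOpen.comap_primeIdealOf_appLE V hV W hW hWV hx).1)
    intro h2
    have h3 : f ∈ (hV.primeIdealOf ⟨u x, hWV hx⟩).asIdeal := h1 ▸ Ideal.mem_comap.mpr h2
    have h4 := SetLike.ext_iff.mp (hV.fromSpec_preimage_basicOpen f)
      (hV.primeIdealOf ⟨u x, hWV hx⟩)
    rw [Scheme.Hom.mem_preimage, hV.fromSpec_primeIdealOf] at h4
    exact (h4.mp hxf) h3
  have hyV : u.base x ∈ V := hWV hx
  letI := TopCat.Presheaf.algebra_section_stalk Y.presheaf ⟨u.base x, hyV⟩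
  haveI := hV.isLocalization_stalk ⟨u.base x, hyV⟩
  haveI : IsScalarTower Γ(Y, V) (Y.presheaf.stalk (u.base x)) (M.presheaf.stalk x) := by
    refine .of_algebraMap_smul fun r m => ?_
    show (u.stalkMap x) (Y.presheaf.germ V (u.base x) hyV r) • m =
      X.presheaf.germ W x hx (u.appLE V W hWV r) • m
    congr 1
    rw [Scheme.Hom.germ_stalkMap_apply, Scheme.Hom.appLE, CommRingCat.comp_apply,
      X.presheaf.germ_res_apply]
  exact (Module.flat_iff_of_isLocalization (Y.presheaf.stalk (u.base x))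
    (hV.primeIdealOf ⟨u.base x, hyV⟩).asIdeal.primeCompl (M.presheaf.stalk x)).mpr hflat

theorem exists_flat_open {Y : Scheme.{u}} (u : X ⟶ Y) [IsIntegral Y] [LocallyOfFiniteType u]
    [QuasiCompact u] (M : X.Modules) [Coh.IsQCoh M]
    (hM : SheafOfModules.IsFiniteType (R := X.ringCatSheaf) M) :
    ∃ U : Y.Opens, (U : Set Y).Nonempty ∧ ∀ x : X, u.base x ∈ U → FlatMod.IsFlatOverAt u M x := by
  classical
  obtain ⟨_, ⟨V : Y.Opens, hV, rfl⟩, hxV, -⟩ :=
    Y.isBasis_affineOpens.exists_subset_of_mem_open (Set.mem_univ (Classical.arbitrary Y)) isOpen_univ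
  haveI : Nonempty V := ⟨⟨_, hxV⟩⟩
  obtain ⟨s, hsfin, hs⟩ : ∃ s : Set X.affineOpens, s.Finite ∧
      (u ⁻¹ᵁ V : Set X) = ⋃ i ∈ s, (i.1 : Set X) :=
    isCompact_and_isOpen_iff_finite_and_eq_biUnion_affineOpens.mp
      ⟨u.isCompact_preimage hV.isCompact, (u ⁻¹ᵁ V).2⟩
  have key : ∀ t : Finset X.affineOpens, (∀ i ∈ t, i.1 ≤ u ⁻¹ᵁ V) →
      ∃ f : Γ(Y, V), f ≠ 0 ∧ ∀ i ∈ t, ∀ x ∈ i.1, u.base x ∈ Y.basicOpen f →
        FlatMod.IsFlatOverAt u M x := by
    intro t
    induction t using Finset.induction_on with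
    | empty => exact fun _ => ⟨1, one_ne_zero, fun i hi => absurd hi (Finset.notMem_empty i)⟩
    | insert j t hj ih =>
      intro hle
      obtain ⟨f, hf, hft⟩ := ih fun i hi => hle i (Finset.mem_insert_of_mem hi)
      have hjV := hle j (Finset.mem_insert_self _ _)
      algebraize [(u.appLE V j.1 hjV).hom]
      letI := Module.compHom Γ(M, j.1) (u.appLE V j.1 hjV).hom
      haveI : IsScalarTower Γ(Y, V) Γ(X, j.1) Γ(M, j.1) := .of_algebraMap_smul fun _ _ => rfl
      haveI : Algebra.FiniteType Γ(Y, V) Γ(X, j.1) :=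
        RingHom.finiteType_algebraMap.mp (u.finiteType_appLE hV j.2 hjV)
      haveI := QCohLib.finite_sections M hM j.2
      obtain ⟨f', hff', hf', hfree, -⟩ := exists_module (S := Γ(X, j.1)) (M := Γ(M, j.1)) hf
      refine ⟨f', hf', fun i hi x hx hxf => ?_⟩
      rcases Finset.mem_insert.mp hi with rfl | hi
      · exact isFlatOverAt_of_freeAt u M hV i.2 hjV f' hfree x hx hxf
      · refine hft i hi x hx ?_
        obtain ⟨c, rfl⟩ := hff'
        rw [Scheme.basicOpen_mul] at hxf
        exact hxf.1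
  obtain ⟨f, hf, hflat⟩ := key hsfin.toFinset fun i hi z hz => by
    show z ∈ (u ⁻¹ᵁ V : Set X)
    rw [hs]
    exact Set.mem_biUnion (hsfin.mem_toFinset.mp hi) hz
  refine ⟨Y.basicOpen f, ?_, fun x hx => ?_⟩
  · refine Set.nonempty_iff_ne_empty.mpr fun he => hf ?_
    exact (AlgebraicGeometry.basicOpen_eq_bot_iff f).mp (TopologicalSpace.Opens.ext he)
  · have hxV : x ∈ (u ⁻¹ᵁ V : Set X) := Y.basicOpen_le f hx
    rw [hs] at hxV
    obtain ⟨i, hi, hxi⟩ := Set.mem_iUnion₂.mp hxV
    exact hflat i (hsfin.mem_toFinset.mpr hi) x hxi hx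

end Groth.Agent.GenFree
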